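import Groth.Prelude.Def_W4c1extbt15Mult
import Mathlib.Algebra.Group.Basic
import Mathlib.Data.Fin.Basic
import Mathlib.Tactic.Group

/-!
# Tuples of points and multilinear alternating morphisms
-/

universe v u

open CategoryTheory MonoidalCategory CartesianMonoidalCategory MonObj MultSch

namespace Groth.Agent.H2.Mult

variable {C : Type u} [Category.{v} C] [CartesianMonoidalCategory C] [BraidedCategory C]

/-- The coordinates of a power. -/
def proj (M : C) : {n : ℕ} → Fin n → (pow M n ⟶ M)
  | _ + 1, i => Fin.cases (fst M _) (fun j => snd M _ ≫ proj M j) i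

theorem comp_tuple {M T T' : C} (g : T' ⟶ T) :
    ∀ {n : ℕ} (x : Fin n → (T ⟶ M)), g ≫ tuple x = tuple fun i => g ≫ x i
  | 0, _ => toUnit_unique _ _
  | n + 1, x => by
    change g ≫ lift (x 0) (tuple fun i => x i.succ) = lift (g ≫ x 0) (tuple fun i => g ≫ x i.succ)
    rw [comp_lift, comp_tuple g fun i => x i.succ]

theorem tuple_comp_proj {M T : C} :
    ∀ {n : ℕ} (x : Fin n → (T ⟶ M)) (i : Fin n), tuple x ≫ proj M i = x i
  | n + 1, x, i => by
    induction i using Fin.cases with
    | zero => exact lift_fst _ _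
    | succ j =>
      change lift (x 0) (tuple fun i => x i.succ) ≫ (snd M (pow M n) ≫ proj M j) = x j.succ
      rw [← Category.assoc, lift_snd]
      exact tuple_comp_proj (fun i => x i.succ) j

theorem tuple_proj {M T : C} :
    ∀ {n : ℕ} (z : T ⟶ pow M n), tuple (fun i => z ≫ proj M i) = z
  | 0, _ => toUnit_unique _ _
  | n + 1, z => by
    change lift (z ≫ fst M (pow M n)) (tuple fun i => z ≫ (snd M (pow M n) ≫ proj M i)) = z
    simp only [← Category.assoc]
    rw [tuple_proj (z ≫ snd M (pow M n))]
    exact lift_comp_fst_snd z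

variable {M N : C} [GrpObj M] [GrpObj N] {n : ℕ}

theorem map_one_coord {φ : pow M n ⟶ N} (h : IsMultilinear φ) {T : C} (x : Fin n → (T ⟶ M))
    (i : Fin n) : tuple (Function.update x i 1) ≫ φ = 1 := by
  simpa using h T x i 1 1

theorem swap_eq_inv {φ : pow M n ⟶ N} (h : IsMultilinear φ) (ha : IsAlternating φ) {T : C}
    (x : Fin n → (T ⟶ M)) {i j : Fin n} (hij : i ≠ j) (a b : T ⟶ M) :
    tuple (Function.update (Function.update x i a) j b) ≫ φ =
      (tuple (Function.update (Function.update x i b) j a) ≫ φ)⁻¹ := by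
  classical
  let F (p q : T ⟶ M) := tuple (Function.update (Function.update x i p) j q) ≫ φ
  change F a b = (F b a)⁻¹
  have h1 : ∀ p q q', F p (q * q') = F p q * F p q' := fun p q q' => h T _ j q q'
  have h2 : ∀ p p' q, F (p * p') q = F p q * F p' q := fun p p' q => by
    simp only [F, Function.update_comm hij]
    exact h T _ i p p'
  have h0 : ∀ p, F p p = 1 := fun p => ha T _ i j hij (by simp [hij])
  have := h0 (a * b)
  rw [h2, h1, h1, h0, h0, _root_.one_mul, _root_.mul_one] at this
  exact eq_inv_of_mul_eq_one_left this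

theorem vanish_coord {φ : pow M n ⟶ N} (h : IsMultilinear φ) (ha : IsAlternating φ) {T : C}
    {P : (T ⟶ M) → Prop} {i₀ : Fin n} (hP : ∀ x : Fin n → (T ⟶ M), P (x i₀) → tuple x ≫ φ = 1)
    (x : Fin n → (T ⟶ M)) (i : Fin n) (hx : P (x i)) : tuple x ≫ φ = 1 := by
  classical
  by_cases hi : i = i₀
  · exact hP x (hi ▸ hx)
  have e : x = Function.update (Function.update x i (x i)) i₀ (x i₀) := by simp
  rw [e, swap_eq_inv h ha x hi, inv_eq_one]
  exact hP _ (by simpa using hx)

end Groth.Agent.H2.Mult
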